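import Cfsg.Agent.Lib.Cert.Mod
import Cfsg.Agent.Lib.PermCert.PL

set_option autoImplicit false
set_option maxRecDepth 100000

namespace Cfsg.Agent.Ct.A7

open Cfsg.Agent.PC

open Cfsg.Agent.Fi Cfsg.Agent.Ct
namespace L1
def t0x : TN := (TN.leaf (nat_lit 335137))
def t1x : TN := (TN.leaf (nat_lit 0x104a22))
def tt : TN := (TN.node (TN.node (TN.node (TN.node t0x (TN.leaf (nat_lit 0))) (TN.node (TN.leaf (nat_lit 0)) (TN.leaf (nat_lit 0)))) (TN.node (TN.node (TN.leaf (nat_lit 0)) (TN.leaf (nat_lit 0))) (TN.node (TN.leaf (nat_lit 0)) (TN.leaf (nat_lit 0))))) (TN.node (TN.node (TN.node t1x (TN.leaf (nat_lit 0))) (TN.node (TN.leaf (nat_lit 0)) (TN.leaf (nat_lit 0)))) (TN.node (TN.node (TN.leaf (nat_lit 0)) (TN.leaf (nat_lit 0))) (TN.node (TN.leaf (nat_lit 0)) (TN.leaf (nat_lit 0))))))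
noncomputable def T (j c : ℕ) : ℕ := getL tt (nat_lit 7) (nat_lit 3) j c
noncomputable def E (j c : ℕ) : ℕ := getL tt (nat_lit 7) (nat_lit 127) j c
theorem T_eq (j c : ℕ) : T j c = E j c % 4 :=
  getL_mod (a := 2) (b := 7) _ _ (by norm_num) (by norm_num) (by norm_num) (by norm_num) j c
def rels : List (List ℕ) := [[nat_lit 0, nat_lit 0, nat_lit 0]]
def inv (i : ℕ) : ℕ := Nat.land (Nat.shiftRight (nat_lit 33) (Nat.mul (nat_lit 2) i)) (nat_lit 3)
def X_t : TN := (TN.leaf (nat_lit 0))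
noncomputable def X (i : ℕ) : ℕ := get9 X_t (nat_lit 1) (nat_lit 1) i
def Jp_t : TN := (TN.leaf (nat_lit 0))
noncomputable def Jp (i : ℕ) : ℕ := get9 Jp_t (nat_lit 1) (nat_lit 1) i
def J_t : TN := (TN.leaf (nat_lit 0))
noncomputable def J (k : ℕ) : ℕ := getV J_t Jp k
def Pa_t : TN := (TN.leaf (nat_lit 0x102080))
noncomputable def Pa (i : ℕ) : ℕ := get9 Pa_t (nat_lit 7) (nat_lit 127) i
def W_t : TL := (TL.leaf [nat_lit 2, nat_lit 0, nat_lit 1, nat_lit 1])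
noncomputable def W (i : ℕ) : List ℕ := TL.get W_t i
def WA_t : TL := (TL.leaf [nat_lit 0])
noncomputable def WA (i : ℕ) : List ℕ := TL.get WA_t i
noncomputable def row : ℕ → ℕ := hRow (nat_lit 2) (nat_lit 2) (nat_lit 0) (nat_lit 4) (nat_lit 4) (nat_lit 16) (nat_lit 64) (nat_lit 64) (nat_lit 0) E X Pa inv (wfun (nat_lit 1) W_t)
noncomputable def aux : ℕ → ℕ := hAux (nat_lit 3) (nat_lit 2) (nat_lit 4) (nat_lit 16) (nat_lit 64) (nat_lit 2) (nat_lit 2) (nat_lit 64) (nat_lit 0) E X J Pa inv WA_t.get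
theorem r0 : Nat.beq (rng row (nat_lit 0) (nat_lit 3)) (nat_lit 0) = true := by decide +kernel
theorem rows : ∀ i < 3, row i = 0 := by
  have h := zero_lt_zero row
  have h := zero_lt_add (a := (nat_lit 0)) (n := (nat_lit 3)) (b := (nat_lit 3)) h r0 rfl
  exact h
theorem auxs : ∀ i < 0, aux i = 0 := by
  have h := zero_lt_zero aux
  exact h
theorem closes.{u} : ClosesT.{u} inv rels 2 0 3 T :=
  hc_closes (N1 := (nat_lit 2)) rfl T_eq (by decide +kernel) rows auxs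
theorem T_inv : ∀ c < 3, ∀ j < 2, T j c < 3 ∧ T (inv j) (T j c) = c := 
  hc_inv (inv := inv) (N1 := (nat_lit 2)) rfl T_eq rows
end L1

namespace L2
def t0x : TN := (TN.leaf (nat_lit 0x256b4224))
def t1x : TN := (TN.leaf (nat_lit 0x82254340))
def t2x : TN := (TN.leaf (nat_lit 0x826f2441))
def tt : TN := (TN.node (TN.node (TN.node (TN.node t0x (TN.leaf (nat_lit 0))) (TN.node (TN.leaf (nat_lit 0)) (TN.leaf (nat_lit 0)))) (TN.node (TN.node t2x (TN.leaf (nat_lit 0))) (TN.node (TN.leaf (nat_lit 0)) (TN.leaf (nat_lit 0))))) (TN.node (TN.node (TN.node t1x (TN.leaf (nat_lit 0))) (TN.node (TN.leaf (nat_lit 0)) (TN.leaf (nat_lit 0)))) (TN.node (TN.node (TN.leaf (nat_lit 0)) (TN.leaf (nat_lit 0))) (TN.node (TN.leaf (nat_lit 0)) (TN.leaf (nat_lit 0))))))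
noncomputable def T (j c : ℕ) : ℕ := getL tt (nat_lit 8) (nat_lit 3) j c
noncomputable def E (j c : ℕ) : ℕ := getL tt (nat_lit 8) (nat_lit 255) j c
theorem T_eq (j c : ℕ) : T j c = E j c % 4 :=
  getL_mod (a := 2) (b := 8) _ _ (by norm_num) (by norm_num) (by norm_num) (by norm_num) j c
def rels : List (List ℕ) := [[nat_lit 0, nat_lit 0, nat_lit 0], [nat_lit 0, nat_lit 2, nat_lit 0, nat_lit 2, nat_lit 0, nat_lit 2]]
def inv (i : ℕ) : ℕ := Nat.land (Nat.shiftRight (nat_lit 225) (Nat.mul (nat_lit 2) i)) (nat_lit 3)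
def X_t : TN := (TN.leaf (nat_lit 0))
noncomputable def X (i : ℕ) : ℕ := get9 X_t (nat_lit 1) (nat_lit 1) i
def Jp_t : TN := (TN.leaf (nat_lit 0))
noncomputable def Jp (i : ℕ) : ℕ := get9 Jp_t (nat_lit 1) (nat_lit 1) i
def J_t : TN := (TN.leaf (nat_lit 0))
noncomputable def J (k : ℕ) : ℕ := getV J_t Jp k
def Pa_t : TN := (TN.leaf (nat_lit 0x90914200))
noncomputable def Pa (i : ℕ) : ℕ := get9 Pa_t (nat_lit 8) (nat_lit 255) i
def W_t : TL := (TL.node (TL.leaf [nat_lit 2, nat_lit 0, nat_lit 1, nat_lit 1]) (TL.leaf [nat_lit 2050, nat_lit 2, nat_lit 1, nat_lit 2, nat_lit 1, nat_lit 2, nat_lit 1]))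
noncomputable def W (i : ℕ) : List ℕ := TL.get W_t i
def WA_t : TL := (TL.leaf [nat_lit 0])
noncomputable def WA (i : ℕ) : List ℕ := TL.get WA_t i
noncomputable def row : ℕ → ℕ := hRow (nat_lit 3) (nat_lit 3) (nat_lit 2) (nat_lit 4) (nat_lit 8) (nat_lit 32) (nat_lit 64) (nat_lit 64) (nat_lit 0) E X Pa inv (wfun (nat_lit 2) W_t)
noncomputable def aux : ℕ → ℕ := hAux (nat_lit 4) (nat_lit 3) (nat_lit 4) (nat_lit 32) (nat_lit 64) (nat_lit 2) (nat_lit 2) (nat_lit 64) (nat_lit 0) E X J Pa inv WA_t.get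
theorem r0 : Nat.beq (rng row (nat_lit 0) (nat_lit 4)) (nat_lit 0) = true := by decide +kernel
theorem rows : ∀ i < 4, row i = 0 := by
  have h := zero_lt_zero row
  have h := zero_lt_add (a := (nat_lit 0)) (n := (nat_lit 4)) (b := (nat_lit 4)) h r0 rfl
  exact h
theorem auxs : ∀ i < 0, aux i = 0 := by
  have h := zero_lt_zero aux
  exact h
theorem closes.{u} : ClosesT.{u} inv rels 3 2 4 T :=
  hc_closes (N1 := (nat_lit 3)) rfl T_eq (by decide +kernel) rows auxs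
theorem T_inv : ∀ c < 4, ∀ j < 3, T j c < 4 ∧ T (inv j) (T j c) = c := 
  hc_inv (inv := inv) (N1 := (nat_lit 3)) rfl T_eq rows
end L2

namespace L3
def t0x : TN := (TN.leaf (nat_lit 0x4a6a20e0248))
def t1x : TN := (TN.leaf (nat_lit 0x10325211b280))
def t2x : TN := (TN.leaf (nat_lit 0x1439a1250448))
def t3x : TN := (TN.leaf (nat_lit 0x143963889081))
def tt : TN := (TN.node (TN.node (TN.node (TN.node t0x (TN.leaf (nat_lit 0))) (TN.node (TN.leaf (nat_lit 0)) (TN.leaf (nat_lit 0)))) (TN.node (TN.node t2x (TN.leaf (nat_lit 0))) (TN.node (TN.leaf (nat_lit 0)) (TN.leaf (nat_lit 0))))) (TN.node (TN.node (TN.node t1x (TN.leaf (nat_lit 0))) (TN.node (TN.leaf (nat_lit 0)) (TN.leaf (nat_lit 0)))) (TN.node (TN.node t3x (TN.leaf (nat_lit 0))) (TN.node (TN.leaf (nat_lit 0)) (TN.leaf (nat_lit 0))))))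
noncomputable def T (j c : ℕ) : ℕ := getL tt (nat_lit 9) (nat_lit 7) j c
noncomputable def E (j c : ℕ) : ℕ := getL tt (nat_lit 9) (nat_lit 511) j c
theorem T_eq (j c : ℕ) : T j c = E j c % 8 :=
  getL_mod (a := 3) (b := 9) _ _ (by norm_num) (by norm_num) (by norm_num) (by norm_num) j c
def rels : List (List ℕ) := [[nat_lit 0, nat_lit 0, nat_lit 0], [nat_lit 0, nat_lit 2, nat_lit 0, nat_lit 2, nat_lit 0, nat_lit 2], [nat_lit 0, nat_lit 3, nat_lit 0, nat_lit 3], [nat_lit 2, nat_lit 3, nat_lit 2, nat_lit 3, nat_lit 2, nat_lit 3]]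
def inv (i : ℕ) : ℕ := Nat.land (Nat.shiftRight (nat_lit 18049) (Nat.mul (nat_lit 3) i)) (nat_lit 7)
def X_t : TN := (TN.leaf (nat_lit 0))
noncomputable def X (i : ℕ) : ℕ := get9 X_t (nat_lit 1) (nat_lit 1) i
def Jp_t : TN := (TN.leaf (nat_lit 0))
noncomputable def Jp (i : ℕ) : ℕ := get9 Jp_t (nat_lit 1) (nat_lit 1) i
def J_t : TN := (TN.leaf (nat_lit 0))
noncomputable def J (k : ℕ) : ℕ := getV J_t Jp k
def Pa_t : TN := (TN.leaf (nat_lit 0x1a0d0c490600))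
noncomputable def Pa (i : ℕ) : ℕ := get9 Pa_t (nat_lit 9) (nat_lit 511) i
def W_t : TL := (TL.node (TL.node (TL.node (TL.leaf [nat_lit 2, nat_lit 0, nat_lit 1, nat_lit 1]) (TL.leaf [nat_lit 2050, nat_lit 2, nat_lit 1, nat_lit 2, nat_lit 1, nat_lit 2, nat_lit 1])) (TL.leaf [nat_lit 6147, nat_lit 3, nat_lit 2, nat_lit 3, nat_lit 2, nat_lit 3, nat_lit 2])) (TL.node (TL.leaf [nat_lit 4097, nat_lit 1, nat_lit 3, nat_lit 0, nat_lit 3]) (TL.leaf [nat_lit 4098, nat_lit 3, nat_lit 1, nat_lit 3, nat_lit 1])))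
noncomputable def W (i : ℕ) : List ℕ := TL.get W_t i
def WA_t : TL := (TL.leaf [nat_lit 0])
noncomputable def WA (i : ℕ) : List ℕ := TL.get WA_t i
noncomputable def row : ℕ → ℕ := hRow (nat_lit 4) (nat_lit 4) (nat_lit 3) (nat_lit 8) (nat_lit 8) (nat_lit 64) (nat_lit 128) (nat_lit 128) (nat_lit 0) E X Pa inv (wfun (nat_lit 5) W_t)
noncomputable def aux : ℕ → ℕ := hAux (nat_lit 5) (nat_lit 4) (nat_lit 8) (nat_lit 64) (nat_lit 128) (nat_lit 2) (nat_lit 2) (nat_lit 128) (nat_lit 0) E X J Pa inv WA_t.get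
theorem r0 : Nat.beq (rng row (nat_lit 0) (nat_lit 5)) (nat_lit 0) = true := by decide +kernel
theorem rows : ∀ i < 5, row i = 0 := by
  have h := zero_lt_zero row
  have h := zero_lt_add (a := (nat_lit 0)) (n := (nat_lit 5)) (b := (nat_lit 5)) h r0 rfl
  exact h
theorem auxs : ∀ i < 0, aux i = 0 := by
  have h := zero_lt_zero aux
  exact h
theorem closes.{u} : ClosesT.{u} inv rels 4 3 5 T :=
  hc_closes (N1 := (nat_lit 4)) rfl T_eq (by decide +kernel) rows auxs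
theorem T_inv : ∀ c < 5, ∀ j < 4, T j c < 5 ∧ T (inv j) (T j c) = c := 
  hc_inv (inv := inv) (N1 := (nat_lit 4)) rfl T_eq rows
end L3

namespace L4
def t0x : TN := (TN.leaf (nat_lit 0x22d954130280488))
def t1x : TN := (TN.leaf (nat_lit 0x8108b416b266500))
def t2x : TN := (TN.leaf (nat_lit 0xe135d2290368488))
def t3x : TN := (TN.leaf (nat_lit 0xc12cd90c8940888))
def t4x : TN := (TN.leaf (nat_lit 0xc12d58edaa22101))
def tt : TN := (TN.node (TN.node (TN.node (TN.node t0x (TN.leaf (nat_lit 0))) (TN.node t4x (TN.leaf (nat_lit 0)))) (TN.node (TN.node t2x (TN.leaf (nat_lit 0))) (TN.node (TN.leaf (nat_lit 0)) (TN.leaf (nat_lit 0))))) (TN.node (TN.node (TN.node t1x (TN.leaf (nat_lit 0))) (TN.node (TN.leaf (nat_lit 0)) (TN.leaf (nat_lit 0)))) (TN.node (TN.node t3x (TN.leaf (nat_lit 0))) (TN.node (TN.leaf (nat_lit 0)) (TN.leaf (nat_lit 0))))))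
noncomputable def T (j c : ℕ) : ℕ := getL tt (nat_lit 10) (nat_lit 7) j c
noncomputable def E (j c : ℕ) : ℕ := getL tt (nat_lit 10) (nat_lit 1023) j c
theorem T_eq (j c : ℕ) : T j c = E j c % 8 :=
  getL_mod (a := 3) (b := 10) _ _ (by norm_num) (by norm_num) (by norm_num) (by norm_num) j c
def rels : List (List ℕ) := [[nat_lit 0, nat_lit 0, nat_lit 0], [nat_lit 0, nat_lit 2, nat_lit 0, nat_lit 2, nat_lit 0, nat_lit 2], [nat_lit 0, nat_lit 3, nat_lit 0, nat_lit 3], [nat_lit 2, nat_lit 3, nat_lit 2, nat_lit 3, nat_lit 2, nat_lit 3], [nat_lit 0, nat_lit 4, nat_lit 0, nat_lit 4], [nat_lit 2, nat_lit 4, nat_lit 2, nat_lit 4], [nat_lit 3, nat_lit 4, nat_lit 3, nat_lit 4, nat_lit 3, nat_lit 4]]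
def inv (i : ℕ) : ℕ := Nat.land (Nat.shiftRight (nat_lit 181889) (Nat.mul (nat_lit 3) i)) (nat_lit 7)
def X_t : TN := (TN.leaf (nat_lit 0))
noncomputable def X (i : ℕ) : ℕ := get9 X_t (nat_lit 1) (nat_lit 1) i
def Jp_t : TN := (TN.leaf (nat_lit 0))
noncomputable def Jp (i : ℕ) : ℕ := get9 Jp_t (nat_lit 1) (nat_lit 1) i
def J_t : TN := (TN.leaf (nat_lit 0))
noncomputable def J (k : ℕ) : ℕ := getV J_t Jp k
def Pa_t : TN := (TN.leaf (nat_lit 0x8c2316891321000))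
noncomputable def Pa (i : ℕ) : ℕ := get9 Pa_t (nat_lit 10) (nat_lit 1023) i
def W_t : TL := (TL.node (TL.node (TL.node (TL.node (TL.leaf [nat_lit 2, nat_lit 0, nat_lit 1, nat_lit 1]) (TL.leaf [nat_lit 8194, nat_lit 4, nat_lit 1, nat_lit 4, nat_lit 1])) (TL.leaf [nat_lit 4097, nat_lit 1, nat_lit 3, nat_lit 0, nat_lit 3])) (TL.node (TL.leaf [nat_lit 10241, nat_lit 2, nat_lit 4, nat_lit 2, nat_lit 4]) (TL.leaf [nat_lit 6147, nat_lit 3, nat_lit 2, nat_lit 3, nat_lit 2, nat_lit 3, nat_lit 2]))) (TL.node (TL.node (TL.node (TL.leaf [nat_lit 8193, nat_lit 1, nat_lit 4, nat_lit 0, nat_lit 4]) (TL.leaf [nat_lit 2050, nat_lit 2, nat_lit 1, nat_lit 2, nat_lit 1, nat_lit 2, nat_lit 1])) (TL.leaf [nat_lit 10243, nat_lit 4, nat_lit 2, nat_lit 4, nat_lit 2])) (TL.node (TL.leaf [nat_lit 12291, nat_lit 4, nat_lit 3, nat_lit 4, nat_lit 3, nat_lit 4, nat_lit 3]) (TL.leaf [nat_lit 4098, nat_lit 3, nat_lit 1,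 nat_lit 3, nat_lit 1]))))
noncomputable def W (i : ℕ) : List ℕ := TL.get W_t i
def WA_t : TL := (TL.leaf [nat_lit 0])
noncomputable def WA (i : ℕ) : List ℕ := TL.get WA_t i
noncomputable def row : ℕ → ℕ := hRow (nat_lit 5) (nat_lit 5) (nat_lit 4) (nat_lit 8) (nat_lit 16) (nat_lit 128) (nat_lit 128) (nat_lit 128) (nat_lit 0) E X Pa inv (wfun (nat_lit 10) W_t)
noncomputable def aux : ℕ → ℕ := hAux (nat_lit 6) (nat_lit 5) (nat_lit 8) (nat_lit 128) (nat_lit 128) (nat_lit 2) (nat_lit 2) (nat_lit 128) (nat_lit 0) E X J Pa inv WA_t.get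
theorem r0 : Nat.beq (rng row (nat_lit 0) (nat_lit 6)) (nat_lit 0) = true := by decide +kernel
theorem rows : ∀ i < 6, row i = 0 := by
  have h := zero_lt_zero row
  have h := zero_lt_add (a := (nat_lit 0)) (n := (nat_lit 6)) (b := (nat_lit 6)) h r0 rfl
  exact h
theorem auxs : ∀ i < 0, aux i = 0 := by
  have h := zero_lt_zero aux
  exact h
theorem closes.{u} : ClosesT.{u} inv rels 5 4 6 T :=
  hc_closes (N1 := (nat_lit 5)) rfl T_eq (by decide +kernel) rows auxs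
theorem T_inv : ∀ c < 6, ∀ j < 5, T j c < 6 ∧ T (inv j) (T j c) = c := 
  hc_inv (inv := inv) (N1 := (nat_lit 5)) rfl T_eq rows
end L4

namespace L5
def t0x : TN := (TN.leaf (nat_lit 0x87e705504109313202108))
def t1x : TN := (TN.leaf (nat_lit 0x90665d44c402109203200))
def t2x : TN := (TN.leaf (nat_lit 0x77666d10b20440132a108))
def t3x : TN := (TN.leaf (nat_lit 0x92610c205533401322108))
def t4x : TN := (TN.leaf (nat_lit 0xb05a8665453b40131a108))
def t5x : TN := (TN.leaf (nat_lit 0x10cb65206663542108201))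
def tt : TN := (TN.node (TN.node (TN.node (TN.node t0x (TN.leaf (nat_lit 0))) (TN.node t4x (TN.leaf (nat_lit 0)))) (TN.node (TN.node t2x (TN.leaf (nat_lit 0))) (TN.node (TN.leaf (nat_lit 0)) (TN.leaf (nat_lit 0))))) (TN.node (TN.node (TN.node t1x (TN.leaf (nat_lit 0))) (TN.node t5x (TN.leaf (nat_lit 0)))) (TN.node (TN.node t3x (TN.leaf (nat_lit 0))) (TN.node (TN.leaf (nat_lit 0)) (TN.leaf (nat_lit 0))))))
noncomputable def T (j c : ℕ) : ℕ := getL tt (nat_lit 12) (nat_lit 7) j c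
noncomputable def E (j c : ℕ) : ℕ := getL tt (nat_lit 12) (nat_lit 4095) j c
theorem T_eq (j c : ℕ) : T j c = E j c % 8 :=
  getL_mod (a := 3) (b := 12) _ _ (by norm_num) (by norm_num) (by norm_num) (by norm_num) j c
def rels : List (List ℕ) := [[nat_lit 0, nat_lit 0, nat_lit 0], [nat_lit 0, nat_lit 2, nat_lit 0, nat_lit 2, nat_lit 0, nat_lit 2], [nat_lit 0, nat_lit 3, nat_lit 0, nat_lit 3], [nat_lit 2, nat_lit 3, nat_lit 2, nat_lit 3, nat_lit 2, nat_lit 3], [nat_lit 0, nat_lit 4, nat_lit 0, nat_lit 4], [nat_lit 2, nat_lit 4, nat_lit 2, nat_lit 4], [nat_lit 3, nat_lit 4, nat_lit 3, nat_lit 4, nat_lit 3, nat_lit 4], [nat_lit 2, nat_lit 5, nat_lit 2, nat_lit 5, nat_lit 2, nat_lit 5], [nat_lit 5, nat_lit 2, nat_lit 1, nat_lit 5, nat_lit 0, nat_lit 2, nat_lit 3, nat_lit 4, nat_lit 3, nat_lit 2], [nat_lit 5, nat_lit 3, nat_lit 1, nat_lit 5, nat_lit 0, nat_lit 4]]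
def inv (i : ℕ) : ℕ := Nat.land (Nat.shiftRight (nat_lit 0x1ac681) (Nat.mul (nat_lit 3) i)) (nat_lit 7)
def X_t : TN := (TN.leaf (nat_lit 0))
noncomputable def X (i : ℕ) : ℕ := get9 X_t (nat_lit 1) (nat_lit 1) i
def Jp_t : TN := (TN.leaf (nat_lit 0))
noncomputable def Jp (i : ℕ) : ℕ := get9 Jp_t (nat_lit 1) (nat_lit 1) i
def J_t : TN := (TN.leaf (nat_lit 0))
noncomputable def J (k : ℕ) : ℕ := getV J_t Jp k
def Pa_t : TN := (TN.leaf (nat_lit 0x24590db24411121400))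
noncomputable def Pa (i : ℕ) : ℕ := get9 Pa_t (nat_lit 10) (nat_lit 1023) i
def W_t : TL := (TL.node (TL.node (TL.node (TL.node (TL.leaf [nat_lit 2, nat_lit 0, nat_lit 1, nat_lit 1]) (TL.leaf [nat_lit 10243, nat_lit 4, nat_lit 2, nat_lit 4, nat_lit 2])) (TL.node (TL.leaf [nat_lit 4098, nat_lit 3, nat_lit 1, nat_lit 3, nat_lit 1]) (TL.leaf [nat_lit 14337, nat_lit 2, nat_lit 5, nat_lit 2, nat_lit 5, nat_lit 2, nat_lit 5]))) (TL.node (TL.node (TL.leaf [nat_lit 18442, nat_lit 3, nat_lit 5, nat_lit 4, nat_lit 1, nat_lit 5, nat_lit 0]) (TL.leaf [nat_lit 18439, nat_lit 5, nat_lit 0, nat_lit 4, nat_lit 5, nat_lit 3, nat_lit 1])) (TL.node (TL.leaf [nat_lit 14339, nat_lit 5, nat_lit 2, nat_lit 5, nat_lit 2, nat_lit 5, nat_lit 2]) (TL.leaf [nat_lit 16399, nat_lit 4, nat_lit 3, nat_lit 2, nat_lit 5, nat_lit 2, nat_lit 1, nat_lit 5, nat_lit 0, nat_lit 2, nat_lit 3])))) (TL.node (TL.node (TL.node (TL.leaf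 [nat_lit 18443, nat_lit 4, nat_lit 5, nat_lit 3, nat_lit 1, nat_lit 5, nat_lit 0]) (TL.leaf [nat_lit 4097, nat_lit 1, nat_lit 3, nat_lit 0, nat_lit 3])) (TL.node (TL.leaf [nat_lit 8194, nat_lit 4, nat_lit 1, nat_lit 4, nat_lit 1]) (TL.leaf [nat_lit 16389, nat_lit 0, nat_lit 5, nat_lit 0, nat_lit 2, nat_lit 3, nat_lit 4, nat_lit 3, nat_lit 2, nat_lit 5, nat_lit 2]))) (TL.node (TL.node (TL.leaf [nat_lit 16402, nat_lit 2, nat_lit 5, nat_lit 2, nat_lit 3, nat_lit 4, nat_lit 3, nat_lit 2, nat_lit 1, nat_lit 5, nat_lit 0]) (TL.leaf [nat_lit 6145, nat_lit 2, nat_lit 3, nat_lit 2, nat_lit 3, nat_lit 2, nat_lit 3])) (TL.leaf [nat_lit 2049, nat_lit 1, nat_lit 2, nat_lit 0, nat_lit 2, nat_lit 0, nat_lit 2]))))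
noncomputable def W (i : ℕ) : List ℕ := TL.get W_t i
def WA_t : TL := (TL.leaf [nat_lit 0])
noncomputable def WA (i : ℕ) : List ℕ := TL.get WA_t i
noncomputable def row : ℕ → ℕ := hRow (nat_lit 6) (nat_lit 6) (nat_lit 5) (nat_lit 8) (nat_lit 32) (nat_lit 256) (nat_lit 128) (nat_lit 128) (nat_lit 0) E X Pa inv (wfun (nat_lit 15) W_t)
noncomputable def aux : ℕ → ℕ := hAux (nat_lit 7) (nat_lit 6) (nat_lit 8) (nat_lit 256) (nat_lit 128) (nat_lit 2) (nat_lit 2) (nat_lit 128) (nat_lit 0) E X J Pa inv WA_t.get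
theorem r0 : Nat.beq (rng row (nat_lit 0) (nat_lit 7)) (nat_lit 0) = true := by decide +kernel
theorem rows : ∀ i < 7, row i = 0 := by
  have h := zero_lt_zero row
  have h := zero_lt_add (a := (nat_lit 0)) (n := (nat_lit 7)) (b := (nat_lit 7)) h r0 rfl
  exact h
theorem auxs : ∀ i < 0, aux i = 0 := by
  have h := zero_lt_zero aux
  exact h
theorem closes.{u} : ClosesT.{u} inv rels 6 5 7 T :=
  hc_closes (N1 := (nat_lit 6)) rfl T_eq (by decide +kernel) rows auxs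
theorem T_inv : ∀ c < 7, ∀ j < 6, T j c < 7 ∧ T (inv j) (T j c) = c := 
  hc_inv (inv := inv) (N1 := (nat_lit 6)) rfl T_eq rows
end L5

def rels : List (List ℕ) := [[nat_lit 0, nat_lit 0, nat_lit 0], [nat_lit 0, nat_lit 2, nat_lit 0, nat_lit 2, nat_lit 0, nat_lit 2], [nat_lit 0, nat_lit 3, nat_lit 0, nat_lit 3], [nat_lit 2, nat_lit 3, nat_lit 2, nat_lit 3, nat_lit 2, nat_lit 3], [nat_lit 0, nat_lit 4, nat_lit 0, nat_lit 4], [nat_lit 2, nat_lit 4, nat_lit 2, nat_lit 4], [nat_lit 3, nat_lit 4, nat_lit 3, nat_lit 4, nat_lit 3, nat_lit 4], [nat_lit 2, nat_lit 5, nat_lit 2, nat_lit 5, nat_lit 2, nat_lit 5], [nat_lit 5, nat_lit 2, nat_lit 1, nat_lit 5, nat_lit 0, nat_lit 2, nat_lit 3, nat_lit 4, nat_lit 3, nat_lit 2], [nat_lit 5, nat_lit 3, nat_lit 1, nat_lit 5, nat_lit 0, nat_lit 4]]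
def inv (i : ℕ) : ℕ := Nat.land (Nat.shiftRight (nat_lit 181889) (Nat.mul (nat_lit 3) i)) (nat_lit 7)
theorem ub2 {Γ : Type} [Group Γ] {g : ℕ → Γ} (h1 : InvOK g inv 6) (h2 : ∀ w ∈ rels, ev g w = 1) : CardLE (gen g 2) 3 :=
  tw h1 h2 L1.closes (by decide +kernel) (cardLE_gen_zero g)
theorem ub3 {Γ : Type} [Group Γ] {g : ℕ → Γ} (h1 : InvOK g inv 6) (h2 : ∀ w ∈ rels, ev g w = 1) : CardLE (gen g 3) 12 :=
  tw h1 h2 L2.closes (by decide +kernel) (ub2 h1 h2)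
theorem ub4 {Γ : Type} [Group Γ] {g : ℕ → Γ} (h1 : InvOK g inv 6) (h2 : ∀ w ∈ rels, ev g w = 1) : CardLE (gen g 4) 60 :=
  tw h1 h2 L3.closes (by decide +kernel) (ub3 h1 h2)
theorem ub5 {Γ : Type} [Group Γ] {g : ℕ → Γ} (h1 : InvOK g inv 6) (h2 : ∀ w ∈ rels, ev g w = 1) : CardLE (gen g 5) 360 :=
  tw h1 h2 L4.closes (by decide +kernel) (ub4 h1 h2)
theorem ub6 {Γ : Type} [Group Γ] {g : ℕ → Γ} (h1 : InvOK g inv 6) (h2 : ∀ w ∈ rels, ev g w = 1) : CardLE (gen g 6) 2520 :=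
  tw h1 h2 L5.closes (by decide +kernel) (ub5 h1 h2)

end Cfsg.Agent.Ct.A7
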